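import Cfsg.Agent.Spor.U693A1.D0

set_option autoImplicit false
set_option maxRecDepth 100000000
set_option Elab.async false

namespace Cfsg.Agent.Spor.U693A1

theorem ok0 : Net.okb 1 n0 = true := by decide +kernel

theorem ok1 : Net.okb 1 n1 = true := by decide +kernel

theorem ok2 : Net.okb 1 n2 = true := by decide +kernel

theorem ok3 : Net.okb 1 n3 = true := by decide +kernel

theorem ok4 : Net.okb 1 n4 = true := by decide +kernel

theorem ok5 : Net.okb 1 n5 = true := by decide +kernel

theorem ok6 : Net.okb 1 n6 = true := by decide +kernel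

theorem ok7 : Net.okb 1 n7 = true := by decide +kernel

theorem ok8 : Net.okb 1 n8 = true := by decide +kernel

theorem rel0 : T.rel 1 [1, 1] 0 1 = true := by decide +kernel

theorem rel1 : T.rel 1 [2, 2] 0 1 = true := by decide +kernel

theorem rel2 : T.rel 1 [3, 3] 0 1 = true := by decide +kernel

theorem rel3 : T.rel 1 [4, 4] 0 1 = true := by decide +kernel

theorem rel4 : T.rel 1 [5, 5] 0 1 = true := by decide +kernel

theorem rel5 : T.rel 1 [6, 6] 0 1 = true := by decide +kernel

theorem rel6 : T.rel 1 [7, 7] 0 1 = true := by decide +kernel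

theorem rel7 : T.rel 1 [8, 8] 0 1 = true := by decide +kernel

theorem rel8 : T.rel 1 [9, 9] 0 1 = true := by decide +kernel

theorem rel9 : T.rel 1 [3, 2, 3, 2, 3, 2] 0 1 = true := by decide +kernel

theorem rel10 : T.rel 1 [4, 2, 4, 2] 0 1 = true := by decide +kernel

theorem rel11 : T.rel 1 [5, 2, 5, 2] 0 1 = true := by decide +kernel

theorem rel12 : T.rel 1 [6, 2, 6, 2] 0 1 = true := by decide +kernel

theorem rel13 : T.rel 1 [7, 2, 7, 2] 0 1 = true := by decide +kernel

theorem rel14 : T.rel 1 [8, 2, 8, 2] 0 1 = true := by decide +kernel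

theorem rel15 : T.rel 1 [9, 2, 9, 2] 0 1 = true := by decide +kernel

theorem rel16 : T.rel 1 [4, 3, 4, 3, 4, 3] 0 1 = true := by decide +kernel

theorem rel17 : T.rel 1 [5, 3, 5, 3] 0 1 = true := by decide +kernel

theorem rel18 : T.rel 1 [6, 3, 6, 3] 0 1 = true := by decide +kernel

theorem rel19 : T.rel 1 [7, 3, 7, 3, 7, 3] 0 1 = true := by decide +kernel

theorem rel20 : T.rel 1 [8, 3, 8, 3] 0 1 = true := by decide +kernel

theorem rel21 : T.rel 1 [9, 3, 9, 3] 0 1 = true := by decide +kernel

theorem rel22 : T.rel 1 [5, 4, 5, 4, 5, 4] 0 1 = true := by decide +kernel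

theorem rel23 : T.rel 1 [6, 4, 6, 4] 0 1 = true := by decide +kernel

theorem rel24 : T.rel 1 [7, 4, 7, 4] 0 1 = true := by decide +kernel

theorem rel25 : T.rel 1 [8, 4, 8, 4] 0 1 = true := by decide +kernel

theorem rel26 : T.rel 1 [9, 4, 9, 4] 0 1 = true := by decide +kernel

theorem rel27 : T.rel 1 [6, 5, 6, 5, 6, 5] 0 1 = true := by decide +kernel

theorem rel28 : T.rel 1 [7, 5, 7, 5] 0 1 = true := by decide +kernel

theorem rel29 : T.rel 1 [8, 5, 8, 5] 0 1 = true := by decide +kernel

theorem rel30 : T.rel 1 [9, 5, 9, 5, 9, 5] 0 1 = true := by decide +kernel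

theorem rel31 : T.rel 1 [7, 6, 7, 6] 0 1 = true := by decide +kernel

theorem rel32 : T.rel 1 [8, 6, 8, 6] 0 1 = true := by decide +kernel

theorem rel33 : T.rel 1 [9, 6, 9, 6] 0 1 = true := by decide +kernel

theorem rel34 : T.rel 1 [8, 7, 8, 7, 8, 7] 0 1 = true := by decide +kernel

theorem rel35 : T.rel 1 [9, 7, 9, 7] 0 1 = true := by decide +kernel

theorem rel36 : T.rel 1 [9, 8, 9, 8, 9, 8] 0 1 = true := by decide +kernel

theorem rel37 : T.rel 1 [2, 1, 2, 1] 0 1 = true := by decide +kernel

theorem rel38 : T.rel 1 [3, 1, 3, 1] 0 1 = true := by decide +kernel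

theorem rel39 : T.rel 1 [4, 1, 4, 1] 0 1 = true := by decide +kernel

theorem rel40 : T.rel 1 [5, 1, 5, 1] 0 1 = true := by decide +kernel

theorem rel41 : T.rel 1 [6, 1, 6, 1] 0 1 = true := by decide +kernel

theorem rel42 : T.rel 1 [7, 1, 7, 1] 0 1 = true := by decide +kernel

theorem rel43 : T.rel 1 [8, 1, 8, 1] 0 1 = true := by decide +kernel

theorem rel44 : T.rel 1 [9, 1, 9, 1] 0 1 = true := by decide +kernel

theorem rel45 : T.rel 1 [2, 6, 5, 4, 3, 7, 8, 2, 6, 5, 4, 3, 7, 8, 2, 6, 5, 4, 3, 7, 8, 2, 6, 5, 4, 3, 7, 8, 2, 6, 5, 4, 3, 7, 8, 2, 6, 5, 4, 3, 7, 8, 2, 6, 5, 4, 3, 7, 8, 2, 6, 5, 4, 3, 7, 8, 2, 6, 5, 4, 3, 7, 8] 0 1 = true := by decide +kernel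

theorem rel46 : T.rel 1 [9, 5, 4, 3, 8, 7, 9, 5, 8, 9, 4, 3, 7, 8, 5, 9, 4, 5, 3, 4, 7, 3, 8, 7] 0 1 = true := by decide +kernel

theorem rel47 : T.rel 1 [9, 5, 4, 3, 6, 5, 4, 7, 9, 5, 6, 3, 4, 5, 9, 7, 3, 4, 5, 6, 7, 3, 4, 5, 7, 3, 4, 7, 3, 7] 0 1 = true := by decide +kernel

theorem rel48 : T.rel 1 [1, 9, 5, 4, 3, 2, 7, 3, 4, 5, 9, 7, 3, 2, 4, 5, 3, 4, 7, 3, 2, 7, 3, 4, 5, 7, 3, 4, 7, 3, 7] 0 1 = true := by decide +kernel

theorem rel49 : T.rel 1 [1] 0 1 = true := by decide +kernel

theorem rel50 : T.rel 1 [3, 2, 3, 2] 0 1 = true := by decide +kernel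

theorem rel51 : T.rel 1 [4, 3, 4, 3] 0 1 = true := by decide +kernel

theorem rel52 : T.rel 1 [7, 3, 7, 3] 0 1 = true := by decide +kernel

theorem rel53 : T.rel 1 [5, 4, 5, 4] 0 1 = true := by decide +kernel

theorem rel54 : T.rel 1 [6, 5, 6, 5] 0 1 = true := by decide +kernel

theorem rel55 : T.rel 1 [9, 5, 9, 5] 0 1 = true := by decide +kernel

theorem rel56 : T.rel 1 [8, 7, 8, 7] 0 1 = true := by decide +kernel

theorem rel57 : T.rel 1 [9, 8, 9, 8] 0 1 = true := by decide +kernel

theorem hcov : T.treeCov (ones 1) L 1 = true := by decide +kernel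

theorem hg : lall (fun z => band (memL L z) (band (sub (ones 1) (T.let z).cl) (T.closed (ones 1) z))) gs = true := by decide +kernel

theorem hivk : ivOk (2 * 9) EX IV = true := by decide +kernel

theorem hrt : RT.ok (2 * 9) EX RL = true := by decide +kernel

theorem hdefs : defs F 21 = true := by decide +kernel

noncomputable def st0_l : List Nat := [nat_lit 0x1, nat_lit 0x8000ac02, nat_lit 0x100000200000803, nat_lit 0x88000bc0000600005000088000bc06, nat_lit 0x100001880000c03, nat_lit 0x190000bc02, nat_lit 0x120000300000803, nat_lit 0x60001a8000d803, nat_lit 0x1b8000d00000e000390001b8000d006, nat_lit 0x130001d80000803, nat_lit 0x1e00001802, nat_lit 0x140000400000803, nat_lit 0x80001f00010003, nat_lit 0x208000fc0001200043000208000fc06, nat_lit 0x150002280000803, nat_lit 0x2300002002, nat_lit 0x160000500000803, nat_lit 0xa0002400012803, nat_lit 0x25800124000160004d0002580012406, nat_lit 0x170002780000803, nat_lit 0x2800002802, nat_lit 0x180000600000803, nat_lit 0xc0001a80015003, nat_lit 0x2a8000d00001a000570002a8000d006,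 nat_lit 0x190002c80000803, nat_lit 0x2d00003002, nat_lit 0x1a0000700000803, nat_lit 0xe0002e00017803, nat_lit 0x2f8001740001e000610002f80017406, nat_lit 0x1b0003180000803, nat_lit 0x3200003802, nat_lit 0x5c0001a0000f8000920005200001800198000ba000350001f800120000a60000200033800170000680003e0002480014800006000660002e8000d40007e0004800029800008000ce0005c0001a0000f8000920005200001800198000ba000350001f800120000a60000200033800170000680003e0002480014800006000660002e8000d40007e0004800029800008000ce0005c0001a0000f80009200052000018001983f, nat_lit 0x18001a402, nat_lit 0x1c0003580007403, nat_lit 0x36000070000d40001d0003600007006, nat_lit 0xe8001bc02, nat_lit 0x1e0003880007c03, nat_lit 0x39000078000e00001f0003900007806, nat_lit 0xf8001d402, nat_lit 0x200003b80008403, nat_lit 0x3c000080000ec000210003c00008006, nat_lit 0x108001ec02, nat_lit 0x220003e80008c03, nat_lit 0x3f000088000f8000230003f00008806, nat_lit 0x1180020402, nat_lit 0x240003880009403, nat_lit 0x42000090000e0000250004200009006, nat_lit 0x1280021c02, nat_lit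 0x260004480009c03, nat_lit 0x4500009800110000270004500009806, nat_lit 0x1380023402, nat_lit 0x280003e8000a403, nat_lit 0x480000a0000f800029000480000a006, nat_lit 0x1480024c02]
theorem st0 : band (steps F IV RT base st0_l 21) (Nat.beq (Nat.add 21 (llen st0_l)) 75) = true := by decide +kernel

theorem ep0a : T.treePath [] (Nat.shiftLeft 1 0) 1 = true := by decide +kernel

theorem ep0b : T.treePath [] (Nat.shiftLeft 1 0) 1 = true := by decide +kernel

theorem ep0c : band (lall (fun z => Nat.ble z 255) ([] ++ 1 :: [])) (concl F IV 75 0xb001 (encA ([] ++ 1 :: []) 0)) = true := by decide +kernel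

theorem ep0d : band (Rule.ok (2 * 9) EX [] ⟨lapp [] [], [], 0, false⟩) (band (lall (memL L) []) (lall (memL L) [])) = true := by decide +kernel

theorem cov1 : T.cover 1 [(Nat.shiftLeft 1 0)] = true := by decide +kernel

theorem tl1 : Nat.beq (T.let 1).tt 0 = true := by decide +kernel

theorem ep1a : T.treePath [] (Nat.shiftLeft 1 0) 1 = true := by decide +kernel

theorem ep1b : T.treePath [] (Nat.shiftLeft 1 0) 1 = true := by decide +kernel

theorem ep1c : band (lall (fun z => Nat.ble z 255) ([] ++ 2 :: [])) (concl F IV 75 0x1a801 (encA ([] ++ 2 :: []) 0)) = true := by decide +kernel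

theorem ep1d : band (Rule.ok (2 * 9) EX [] ⟨lapp [] [], [], 0, false⟩) (band (lall (memL L) []) (lall (memL L) [])) = true := by decide +kernel

theorem cov2 : T.cover 2 [(Nat.shiftLeft 1 0)] = true := by decide +kernel

theorem tl2 : Nat.beq (T.let 2).tt 0 = true := by decide +kernel

theorem ep2a : T.treePath [] (Nat.shiftLeft 1 0) 1 = true := by decide +kernel

theorem ep2b : T.treePath [] (Nat.shiftLeft 1 0) 1 = true := by decide +kernel

theorem ep2c : band (lall (fun z => Nat.ble z 255) ([] ++ 3 :: [])) (concl F IV 75 0x1c001 (encA ([] ++ 3 :: []) 0)) = true := by decide +kernel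

theorem ep2d : band (Rule.ok (2 * 9) EX [] ⟨lapp [] [], [], 0, false⟩) (band (lall (memL L) []) (lall (memL L) [])) = true := by decide +kernel

theorem cov3 : T.cover 3 [(Nat.shiftLeft 1 0)] = true := by decide +kernel

theorem tl3 : Nat.beq (T.let 3).tt 0 = true := by decide +kernel

theorem ep3a : T.treePath [] (Nat.shiftLeft 1 0) 1 = true := by decide +kernel

theorem ep3b : T.treePath [] (Nat.shiftLeft 1 0) 1 = true := by decide +kernel

theorem ep3c : band (lall (fun z => Nat.ble z 255) ([] ++ 4 :: [])) (concl F IV 75 0x1d801 (encA ([] ++ 4 :: []) 0)) = true := by decide +kernel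

theorem ep3d : band (Rule.ok (2 * 9) EX [] ⟨lapp [] [], [], 0, false⟩) (band (lall (memL L) []) (lall (memL L) [])) = true := by decide +kernel

theorem cov4 : T.cover 4 [(Nat.shiftLeft 1 0)] = true := by decide +kernel

theorem tl4 : Nat.beq (T.let 4).tt 0 = true := by decide +kernel

theorem ep4a : T.treePath [] (Nat.shiftLeft 1 0) 1 = true := by decide +kernel

theorem ep4b : T.treePath [] (Nat.shiftLeft 1 0) 1 = true := by decide +kernel

theorem ep4c : band (lall (fun z => Nat.ble z 255) ([] ++ 5 :: [])) (concl F IV 75 0x1f001 (encA ([] ++ 5 :: []) 0)) = true := by decide +kernel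

theorem ep4d : band (Rule.ok (2 * 9) EX [] ⟨lapp [] [], [], 0, false⟩) (band (lall (memL L) []) (lall (memL L) [])) = true := by decide +kernel

theorem cov5 : T.cover 5 [(Nat.shiftLeft 1 0)] = true := by decide +kernel

theorem tl5 : Nat.beq (T.let 5).tt 0 = true := by decide +kernel

theorem ep5a : T.treePath [] (Nat.shiftLeft 1 0) 1 = true := by decide +kernel

theorem ep5b : T.treePath [] (Nat.shiftLeft 1 0) 1 = true := by decide +kernel

theorem ep5c : band (lall (fun z => Nat.ble z 255) ([] ++ 6 :: [])) (concl F IV 75 0x20801 (encA ([] ++ 6 :: []) 0)) = true := by decide +kernel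

theorem ep5d : band (Rule.ok (2 * 9) EX [] ⟨lapp [] [], [], 0, false⟩) (band (lall (memL L) []) (lall (memL L) [])) = true := by decide +kernel

theorem cov6 : T.cover 6 [(Nat.shiftLeft 1 0)] = true := by decide +kernel

theorem tl6 : Nat.beq (T.let 6).tt 0 = true := by decide +kernel

theorem ep6a : T.treePath [] (Nat.shiftLeft 1 0) 1 = true := by decide +kernel

theorem ep6b : T.treePath [] (Nat.shiftLeft 1 0) 1 = true := by decide +kernel

theorem ep6c : band (lall (fun z => Nat.ble z 255) ([] ++ 7 :: [])) (concl F IV 75 0x22001 (encA ([] ++ 7 :: []) 0)) = true := by decide +kernel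

theorem ep6d : band (Rule.ok (2 * 9) EX [] ⟨lapp [] [], [], 0, false⟩) (band (lall (memL L) []) (lall (memL L) [])) = true := by decide +kernel

theorem cov7 : T.cover 7 [(Nat.shiftLeft 1 0)] = true := by decide +kernel

theorem tl7 : Nat.beq (T.let 7).tt 0 = true := by decide +kernel

theorem ep7a : T.treePath [] (Nat.shiftLeft 1 0) 1 = true := by decide +kernel

theorem ep7b : T.treePath [] (Nat.shiftLeft 1 0) 1 = true := by decide +kernel

theorem ep7c : band (lall (fun z => Nat.ble z 255) ([] ++ 8 :: [])) (concl F IV 75 0x23801 (encA ([] ++ 8 :: []) 0)) = true := by decide +kernel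

theorem ep7d : band (Rule.ok (2 * 9) EX [] ⟨lapp [] [], [], 0, false⟩) (band (lall (memL L) []) (lall (memL L) [])) = true := by decide +kernel

theorem cov8 : T.cover 8 [(Nat.shiftLeft 1 0)] = true := by decide +kernel

theorem tl8 : Nat.beq (T.let 8).tt 0 = true := by decide +kernel

theorem ep8a : T.treePath [] (Nat.shiftLeft 1 0) 1 = true := by decide +kernel

theorem ep8b : T.treePath [] (Nat.shiftLeft 1 0) 1 = true := by decide +kernel

theorem ep8c : band (lall (fun z => Nat.ble z 255) ([] ++ 9 :: [])) (concl F IV 75 0x25001 (encA ([] ++ 9 :: []) 0)) = true := by decide +kernel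

theorem ep8d : band (Rule.ok (2 * 9) EX [] ⟨lapp [] [], [], 0, false⟩) (band (lall (memL L) []) (lall (memL L) [])) = true := by decide +kernel

theorem cov9 : T.cover 9 [(Nat.shiftLeft 1 0)] = true := by decide +kernel

theorem tl9 : Nat.beq (T.let 9).tt 0 = true := by decide +kernel

end Cfsg.Agent.Spor.U693A1
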